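import Cfsg.Agent.H161.Rec.Fi24Facts
import Cfsg.Agent.H301.PQ.Tools
import Cfsg.Agent.H488.PQ.Height
import Cfsg.Agent.H30.FiE.Down

/-!
# S4612: pairs of `Fi₂₄'` (helper635)

* `f_23` : a character of degree `35873145 = 3^3 5 7^2 11 17 29` in `B0 23`, not in `B0 5, 7, 11, 17, 29`;
* `c_17` : a constituent of the character of degree `112168056 = 2^3 3 7^2 11 13 23 29` in `B0 17`, not in
  `B0 7, 11, 13, 23, 29`;
* `b_29` : a constituent of the character of degree `159402880 = 2^7 5 7^2 13 17 23` in `B0 29`, not in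
  `B0 5, 7, 13, 17, 23`.
-/

set_option autoImplicit false

open Cfsg Cfsg.Agent

namespace Cfsg.Agent.H635.PQ.FiTF

open Cfsg.Agent.H317.PQ Cfsg.Agent.Characters.Core Cfsg.Agent.Blocks.Basic Cfsg.Agent.Blocks.Local
open Cfsg.Agent.H642.PQ Cfsg.Agent.H301.PQ
open Cfsg.Spor (Fi24 Fi24')

theorem card : Nat.card Fi24' = 1255205709190661721292800 := H161.Rec.FiTF.card'

theorem fin : Finite Fi24' := H161.Rec.FiTF.finite'

/-- **degree 35873145** -/
theorem f_23 : ∃ χ : IrrCharacter Fi24', charDegree (χ : Fi24' → ℂ) = 35873145 ∧ χ ∈ B0 23 Fi24' ∧ χ ∉ B0 5 Fi24' ∧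
    χ ∉ B0 7 Fi24' ∧ χ ∉ B0 11 Fi24' ∧ χ ∉ B0 17 Fi24' ∧ χ ∉ B0 29 Fi24' := by
  have := fin
  obtain ⟨χ, hd⟩ := H30.FiE.Down.exists_down_f
  obtain ⟨x, -, hx⟩ := H161.Rec.FiTF.cent23
  have hG := card
  refine ⟨χ, hd, mem_full_elt (by norm_num) (k := 1) (by rw [hx, pow_one]) χ (by rw [hd]; norm_num), ?_, ?_, ?_, ?_, ?_⟩
  · exact H488.PQ.not_mem_height (b := 1) (by norm_num) one_ne_zero (by rw [hd]; norm_num) (by rw [hG]; norm_num)
  · exact H488.PQ.not_mem_height (b := 2) (by norm_num) two_ne_zero (by rw [hd]; norm_num) (by rw [hG]; norm_num)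
  · exact H301.PQ.not_mem_dz (by norm_num) (by rw [hG]; norm_num) hd 1 (by rw [hG]; norm_num) (by norm_num)
  · exact H301.PQ.not_mem_dz (by norm_num) (by rw [hG]; norm_num) hd 1 (by rw [hG]; norm_num) (by norm_num)
  · exact H301.PQ.not_mem_dz (by norm_num) (by rw [hG]; norm_num) hd 1 (by rw [hG]; norm_num) (by norm_num)

/-- a constituent of the restriction -/
theorem exists_part {D : ℕ} (h : ∃ χ : IrrCharacter Fi24, charDegree (χ : Fi24 → ℂ) = D) (hD : D ≠ 0) :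
    ∃ θ : IrrCharacter Fi24', charDegree (θ : Fi24' → ℂ) = D ∨ charDegree (θ : Fi24' → ℂ) * 2 = D := by
  have hfin : Finite Fi24 := Cfsg.Agent.R08.FiTwentyFour.finite_Fi24
  obtain ⟨χ, hχ⟩ := h
  obtain ⟨c, ⟨θ, hθ⟩, ⟨k, hk⟩, h2⟩ := Cfsg.Agent.H424.DegTools.clifford_down (commutator Fi24)
    (d := charDegree (χ : Fi24 → ℂ)) ⟨χ, rfl⟩
  rw [Cfsg.Agent.R08.FiTwentyFour.index_commutator] at h2
  rw [hχ] at hk h2
  have hc : 0 < c := by
    rcases Nat.eq_zero_or_pos c with h | h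
    · rw [h, zero_mul] at hk
      exact absurd hk hD
    · exact h
  rw [hk, Nat.mul_div_cancel_left _ hc] at h2
  refine ⟨θ, ?_⟩
  have h3 : charDegree (θ : Fi24' → ℂ) = c := hθ
  rw [h3]
  rcases (Nat.dvd_prime Nat.prime_two).1 h2 with rfl | rfl
  · exact Or.inl (by rw [hk, mul_one])
  · exact Or.inr hk.symm

/-- **degree 112168056 or 56084028** -/
theorem c_17 : ∃ χ : IrrCharacter Fi24', (charDegree (χ : Fi24' → ℂ) = 112168056 ∨
    charDegree (χ : Fi24' → ℂ) = 56084028) ∧ χ ∈ B0 17 Fi24' ∧ χ ∉ B0 7 Fi24' ∧ χ ∉ B0 11 Fi24' ∧ χ ∉ B0 13 Fi24' ∧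
    χ ∉ B0 23 Fi24' ∧ χ ∉ B0 29 Fi24' := by
  have := fin
  obtain ⟨χ, hd⟩ := exists_part H30.FiE.exists_c (by norm_num)
  replace hd : charDegree (χ : Fi24' → ℂ) = 112168056 ∨ charDegree (χ : Fi24' → ℂ) = 56084028 := by omega
  obtain ⟨x, -, hx⟩ := H161.Rec.FiTF.cent17
  have hG := card
  refine ⟨χ, hd, mem_full_elt (by norm_num) (k := 1) (by rw [hx, pow_one]) χ (by rcases hd with h | h <;> rw [h] <;> norm_num),
    ?_, ?_, ?_, ?_, ?_⟩
  · exact H488.PQ.not_mem_height (b := 2) (by norm_num) two_ne_zero (by rcases hd with h | h <;> rw [h] <;> norm_num)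
      (by rw [hG]; norm_num)
  all_goals
    refine H301.PQ.not_mem_dz (by norm_num) (by rw [hG]; norm_num) rfl 1 (by rw [hG]; norm_num) ?_
    rcases hd with h | h <;> rw [h] <;> norm_num

/-- **degree 159402880 or 79701440** -/
theorem b_29 : ∃ χ : IrrCharacter Fi24', (charDegree (χ : Fi24' → ℂ) = 159402880 ∨
    charDegree (χ : Fi24' → ℂ) = 79701440) ∧ χ ∈ B0 29 Fi24' ∧ χ ∉ B0 5 Fi24' ∧ χ ∉ B0 7 Fi24' ∧ χ ∉ B0 13 Fi24' ∧
    χ ∉ B0 17 Fi24' ∧ χ ∉ B0 23 Fi24' := by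
  have := fin
  obtain ⟨χ, hd⟩ := exists_part H30.FiE.exists_b (by norm_num)
  replace hd : charDegree (χ : Fi24' → ℂ) = 159402880 ∨ charDegree (χ : Fi24' → ℂ) = 79701440 := by omega
  obtain ⟨x, -, hx⟩ := H161.Rec.FiTF.cent29
  have hG := card
  refine ⟨χ, hd, mem_full_elt (by norm_num) (k := 1) (by rw [hx, pow_one]) χ (by rcases hd with h | h <;> rw [h] <;> norm_num),
    ?_, ?_, ?_, ?_, ?_⟩
  · exact H488.PQ.not_mem_height (b := 1) (by norm_num) one_ne_zero (by rcases hd with h | h <;> rw [h] <;> norm_num)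
      (by rw [hG]; norm_num)
  · exact H488.PQ.not_mem_height (b := 2) (by norm_num) two_ne_zero (by rcases hd with h | h <;> rw [h] <;> norm_num)
      (by rw [hG]; norm_num)
  all_goals
    refine H301.PQ.not_mem_dz (by norm_num) (by rw [hG]; norm_num) rfl 1 (by rw [hG]; norm_num) ?_
    rcases hd with h | h <;> rw [h] <;> norm_num

end Cfsg.Agent.H635.PQ.FiTF
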