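import Cfsg.Agent.H635.PQ.Tools
import Cfsg.Agent.H101.PQ.Own
import Cfsg.Agent.H642.PQ.Full
import Cfsg.Agent.H265.SuzCent
import Cfsg.Agent.H503.TwoSuz
import Cfsg.Agent.CpAutSuz.ThreeC
import Cfsg.Agent.H536.NB.Suz
import Cfsg.Agent.H348.PPD.RowSuz
import Cfsg.Agent.H812.SuzSeven
import Cfsg.Agent.H289.Eight.SuzDeg
import Cfsg.Agent.H169.PBSuzRu
import Cfsg.Agent.S0254
import Cfsg.Agent.CTwoTab.Suz

/-!
# S4612, the row `Suz` (helper635)

`C(2B) ⊇ L₃(4)` for `p = 2`, `C(3C) / E = A₆` for the pair (3, 5), the degree 1001 for `p = 3, 5` and `q ≥ 7`,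
the degree 5940 for the pair (7, 13).
-/

set_option autoImplicit false
set_option linter.unusedVariables false

open Cfsg Subgroup

namespace Cfsg.Agent.H635.PQ.Suz

open Cfsg.Agent.H317.PQ Cfsg.Agent.H709.PB Cfsg.Agent.H358.A3 Cfsg.Agent.H766.PQ Cfsg.Agent.H894.PQ
open Cfsg.Agent.H101.PQ Cfsg.Agent.H642.PQ

theorem card_suz : Nat.card Spor.Suz = 448345497600 := SporadicRecognition.SuzOrder.card_Suz

theorem finSuz : Finite Spor.Suz := Nat.finite_of_card_ne_zero (by rw [card_suz]; norm_num)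

theorem primes {q : ℕ} (hq : q.Prime) (hd : q ∣ Nat.card Spor.Suz) :
    q = 2 ∨ q = 3 ∨ q = 5 ∨ q = 7 ∨ q = 11 ∨ q = 13 := by
  rw [card_suz] at hd
  exact H265.SuzCent.prime_cases hq hd

/-! ### `p = 2` -/

section two

open Cfsg.Agent.KFacts.SuzLFour Cfsg.Agent.KFacts.SuzTwoB

theorem lie_L : IsLieTypeChar 2 ↥L :=
  Or.inl ⟨_, inferInstance, inferInstance, inferInstance, 3, by norm_num, fun h => by omega, ⟨CTwoTab.SuzPlane.equiv⟩⟩

theorem not_PQ_two {q : ℕ} (hq : q.Prime) (hq2 : q ≠ 2) (hd : q ∣ 20160) : ¬ PQ 2 q Spor.Suz := by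
  have := finSuz
  intro h
  have h1 : PQ 2 q ↥CE := PQ.centralizer Nat.prime_two hq (Ne.symm hq2) h ⟨1, by
    rw [pow_one]
    exact orderOf_eq_prime (by rw [pow_two, e0_sq]) e0_ne⟩
  have hle : L ≤ CE := L_le.trans VL_le
  have hn : (L.subgroupOf CE).Normal := ⟨fun l hl g => by
    rw [mem_subgroupOf] at hl ⊢
    exact conj_L g.2 hl⟩
  have h2 : PQ 2 q ↥(L.subgroupOf CE) := PQ.normal Nat.prime_two hq (Ne.symm hq2) h1 _
  have h3 : PQ 2 q ↥L := PQ.of_equiv (subgroupOfEquivOfLe hle) h2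
  exact not_PQ_own Nat.prime_two hq hq2 lie_L (by rw [card_L]; exact hd) h3

end two

/-! ### the pair (3, 5) -/

section three

theorem alt_six_lie {S : Type*} [Group S] (e : S ≃* alternatingGroup (Fin 6)) : IsLieTypeChar 3 S := by
  have : Fact (Nat.Prime 3) := ⟨Nat.prime_three⟩
  have : Fintype (GaloisField 3 2) := Fintype.ofFinite _
  have hc : Fintype.card (GaloisField 3 2) = 9 := by
    rw [← Nat.card_eq_fintype_card, GaloisField.card 3 2 (by norm_num)]; norm_num
  obtain ⟨f⟩ := Cfsg.Agent.S0254.result hc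
  exact Or.inl ⟨GaloisField 3 2, inferInstance, inferInstance, inferInstance, 2, le_rfl, fun _ => by omega,
    ⟨e.trans f.symm⟩⟩

open Cfsg.Agent.PreUniq.Spor.SuzP Cfsg.Agent.CpAutSuz.ThreeC

theorem not_PQ_three {q : ℕ} (hq : q.Prime) (hq3 : q ≠ 3) (hd : q ∣ 360) : ¬ PQ 3 q Spor.Suz := by
  have := finSuz
  intro h
  have h1 : PQ 3 q ↥X := PQ.centralizer_subgroup Nat.prime_three hq (Ne.symm hq3) h E isPGroup_E
  have h2 : PQ 3 q (↥X ⧸ E.subgroupOf X) := by
    refine PQ.quot_center Nat.prime_three hq (Ne.symm hq3) h1 (E.subgroupOf X) ?_ ?_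
    · intro e he
      rw [mem_center_iff]
      intro g
      exact Subtype.ext (comm_X g.2 (mem_subgroupOf.1 he)).symm
    · exact isPGroup_E.comap_subtype
  have hs := simple_X
  obtain ⟨e⟩ := Cfsg.Agent.S0497.result (G := ↥X ⧸ E.subgroupOf X) card_quot
  exact not_PQ_own Nat.prime_three hq hq3 (alt_six_lie e) (by rw [card_quot]; exact hd) h2

end three

/-! ### blocks -/

theorem nb_three : NB 3 1 Spor.Suz := by
  have := finSuz
  have : Fact (Nat.Prime 3) := ⟨Nat.prime_three⟩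
  refine NB.of_orders (q := 3) (a := 7) (by rw [card_suz]; norm_num) fun y hy h3 hd => ?_
  rw [show 7 + 1 - 1 = 7 by norm_num] at hd
  rcases primes hy (orderOf_dvd_natCard y) with h | h | h | h | h | h
  · exact H503.TwoSuz.not_dvd_two (p := 3 ^ 7) (by norm_num) (by norm_num) h hd
  · exact h3 h
  · have h1 := hd.trans (H265.SuzCent.dvd_five h)
    norm_num at h1
  · have h1 := hd.trans (H265.SuzCent.dvd_seven h)
    norm_num at h1
  · have h1 := hd.trans (H265.SuzCent.dvd_eleven h)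
    norm_num at h1
  · have h1 := hd.trans (H265.SuzCent.dvd_thirteen h)
    norm_num at h1

theorem nb_five : NB 5 1 Spor.Suz := by
  have := finSuz
  have : Fact (Nat.Prime 5) := ⟨Nat.prime_five⟩
  refine NB.of_orders (q := 5) (a := 2) (by rw [card_suz]; norm_num) fun y hy h5 hd => ?_
  rw [show 2 + 1 - 1 = 2 by norm_num] at hd
  rcases primes hy (orderOf_dvd_natCard y) with h | h | h | h | h | h
  · exact H503.TwoSuz.not_dvd_two (p := 5 ^ 2) (by norm_num) (by norm_num) h hd
  · have h1 := hd.trans (H265.SuzCent.dvd_three h)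
    norm_num at h1
  · exact h5 h
  · have h1 := hd.trans (H265.SuzCent.dvd_seven h)
    norm_num at h1
  · have h1 := hd.trans (H265.SuzCent.dvd_eleven h)
    norm_num at h1
  · have h1 := hd.trans (H265.SuzCent.dvd_thirteen h)
    norm_num at h1

theorem nb_eleven : NB 11 1 Spor.Suz := by
  have := finSuz
  have : Fact (Nat.Prime 11) := ⟨by norm_num⟩
  obtain ⟨y, hy, hc⟩ := H348.PPD.RowSuz.cent11
  exact NB.of_self (g := y) (IsPGroup.of_card (n := 1) (by rw [hc, pow_one])) ⟨1, by rw [hy, pow_one]⟩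

theorem nb_thirteen : NB 13 1 Spor.Suz := by
  have := finSuz
  have : Fact (Nat.Prime 13) := ⟨by norm_num⟩
  obtain ⟨y, hy, hc⟩ := H474.Suz13.suz_thirteen
  exact NB.of_self (g := y) (IsPGroup.of_card (n := 1) (by rw [hc, pow_one])) ⟨1, by rw [hy, pow_one]⟩

/-! ### the degree 1001 -/

theorem exists_1001 : ∃ χ : IrrCharacter Spor.Suz, charDegree (χ : Spor.Suz → ℂ) = 1001 ∧ χ ∈ B0 2 Spor.Suz := by
  have := finSuz
  obtain ⟨-, χ, -, hd, -, hr⟩ := H169.PBSuzRu.suz_chars
  refine ⟨χ, hd, fun M hM => (S4483.result M hM).1 χ hr ?_⟩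
  rw [hd]; decide

theorem k1001 {p a : ℕ} {q : ℕ} (hp : p.Prime) (hq : q.Prime) (h : NB p a Spor.Suz) (h1 : ¬ p ^ a ∣ 1001)
    (hqd : q ∣ 1001) (hG : ¬ q ^ 2 ∣ 448345497600) : ¬ Same p q Spor.Suz := by
  have := finSuz
  obtain ⟨χ, hχ, -⟩ := exists_1001
  have hqG : q ∣ 448345497600 := hqd.trans (by norm_num)
  exact kill hp hq h hχ h1 (b := 1) (by norm_num) (by rwa [pow_one]) (by rw [card_suz, pow_one]; exact hqG)
    (by rw [card_suz]; exact hG)

theorem two_1001 {q : ℕ} (hq : q.Prime) (hqd : q ∣ 1001) (hG : ¬ q ^ 2 ∣ 448345497600) : ¬ Same 2 q Spor.Suz := by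
  have := finSuz
  obtain ⟨χ, hχ, hm⟩ := exists_1001
  have hqG : q ∣ 448345497600 := hqd.trans (by norm_num)
  refine not_same_of_mem hm (not_mem_dz (b := 1) hq hχ (by norm_num) (by norm_num) (by rwa [pow_one])
    (by rw [card_suz, pow_one]; exact hqG) (by rw [card_suz]; exact hG))

/-! ### the pair (7, 13) -/

theorem not_same_7_13 : ¬ Same 7 13 Spor.Suz := by
  have := finSuz
  have h7 : Fact (Nat.Prime 7) := ⟨by norm_num⟩
  have h13 : Fact (Nat.Prime 13) := ⟨by norm_num⟩
  obtain ⟨x, hx, hc⟩ := H474.Suz13.suz_thirteen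
  have hcz : centralizer ((zpowers x : Subgroup Spor.Suz) : Set Spor.Suz) = centralizer ({x} : Set Spor.Suz) := by
    rw [zpowers_eq_closure, centralizer_closure]
  let Q : Sylow 7 Spor.Suz := default
  have hQ : Nat.card (Q : Subgroup Spor.Suz) = 7 := by
    have h1 := J2Type.SylowSeven.card_sylow Q 1 64049356800 (by rw [card_suz]; norm_num) (by norm_num)
    rw [h1]; norm_num
  obtain ⟨⟨e⟩, hn⟩ := H812.SuzSeven.main (G := Spor.Suz) ⟨MulEquiv.refl _⟩ Q
  have hcQ : Nat.card ↥(centralizer ((Q : Subgroup Spor.Suz) : Set Spor.Suz)) = 84 := by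
    have h3 := Nat.card_congr e.toEquiv
    rw [Nat.card_prod] at h3
    refine h3.trans ?_
    have h4 : Nat.card (Multiplicative (ZMod 7)) = 7 := Nat.card_zmod 7
    have h5 : Nat.card (alternatingGroup (Fin 4)) = 12 := by
      rw [nat_card_alternatingGroup]
      simp [Nat.factorial]
    rw [h4, h5]
  have hle : centralizer ((Q : Subgroup Spor.Suz) : Set Spor.Suz) ≤ normalizer ((Q : Subgroup Spor.Suz) : Set Spor.Suz) :=
    centralizer_le_normalizer _
  have hrel : (centralizer ((Q : Subgroup Spor.Suz) : Set Spor.Suz)).relIndex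
      (normalizer ((Q : Subgroup Spor.Suz) : Set Spor.Suz)) = 6 := by
    have h3 := ((centralizer ((Q : Subgroup Spor.Suz) : Set Spor.Suz)).subgroupOf
      (normalizer ((Q : Subgroup Spor.Suz) : Set Spor.Suz))).card_mul_index
    rw [Nat.card_congr (subgroupOfEquivOfLe hle).toEquiv, hcQ, hn] at h3
    show ((centralizer ((Q : Subgroup Spor.Suz) : Set Spor.Suz)).subgroupOf
      (normalizer ((Q : Subgroup Spor.Suz) : Set Spor.Suz))).index = 6
    omega
  intro hS
  refine not_same_deg (p := 13) (q := 7) (by norm_num) (by norm_num) (by norm_num) (U := zpowers x)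
    (IsPGroup.of_card (n := 1) (by rw [Nat.card_zpowers, hx, pow_one]))
    (IsPGroup.of_card (n := 1) (by rw [hcz, hc, pow_one])) Q hQ hrel (d := 5940) (by norm_num) ?_ (by decide) hS.symm
  exact H289.Eight.SuzDeg.deg_5940

/-! ### the row -/

theorem row : Row Spor.Suz := by
  have := finSuz
  apply Row.of_lt
  intro p q hp hq hpq hpG hqG
  rcases primes hp hpG with rfl | rfl | rfl | rfl | rfl | rfl <;>
    rcases primes hq hqG with rfl | rfl | rfl | rfl | rfl | rfl <;>
    first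
      | (exfalso; revert hpq; decide)
      | skip
  · exact fun h => not_PQ_two hq (by norm_num) (by norm_num) (PQ.of_same hq h)
  · exact fun h => not_PQ_two hq (by norm_num) (by norm_num) (PQ.of_same hq h)
  · exact fun h => not_PQ_two hq (by norm_num) (by norm_num) (PQ.of_same hq h)
  · exact two_1001 hq (by norm_num) (by norm_num)
  · exact two_1001 hq (by norm_num) (by norm_num)
  · exact fun h => not_PQ_three hq (by norm_num) (by norm_num) (PQ.of_same hq h)
  · exact k1001 hp hq nb_three (by norm_num) (by norm_num) (by norm_num)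
  · exact k1001 hp hq nb_three (by norm_num) (by norm_num) (by norm_num)
  · exact k1001 hp hq nb_three (by norm_num) (by norm_num) (by norm_num)
  · exact k1001 hp hq nb_five (by norm_num) (by norm_num) (by norm_num)
  · exact k1001 hp hq nb_five (by norm_num) (by norm_num) (by norm_num)
  · exact k1001 hp hq nb_five (by norm_num) (by norm_num) (by norm_num)
  · -- 7 11
    intro h
    obtain ⟨χ, hχ⟩ := H289.Eight.SuzDeg.deg_364
    exact kill (b := 1) hq hp nb_eleven hχ (by norm_num) (by norm_num) (by norm_num) (by rw [card_suz]; norm_num)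
      (by rw [card_suz]; norm_num) h.symm
  · exact not_same_7_13
  · obtain ⟨χ, hχ⟩ := H289.Eight.SuzDeg.deg_780
    exact kill (b := 1) hp hq nb_eleven hχ (by norm_num) (by norm_num) (by norm_num) (by rw [card_suz]; norm_num)
      (by rw [card_suz]; norm_num)

end Cfsg.Agent.H635.PQ.Suz

namespace Cfsg.Agent.H635.PQ

universe u

/-- **The row `Suz`.** -/
theorem row_suz {S : Type u} [Group S] (h : Cfsg.Spor.IsoSuz S) : Cfsg.Agent.H317.PQ.Row S := by
  obtain ⟨e⟩ := h
  have := Suz.finSuz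
  exact Cfsg.Agent.H766.PQ.Row.of_equiv e.symm Suz.row

end Cfsg.Agent.H635.PQ
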