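import Cfsg.Agent.H635.PQ.Co3Elt
import Cfsg.Agent.H739.PQ.Fix

/-!
# S4612, the row `Co₃` (helper635)
-/

set_option autoImplicit false
set_option linter.unusedVariables false

open Cfsg MulAction

namespace Cfsg.Agent.H635.PQ.Co3

open Cfsg.Agent.H317.PQ Cfsg.Agent.H709.PB Cfsg.Agent.H358.A3 Cfsg.Agent.H766.PQ Cfsg.Agent.H894.PQ
open Cfsg.Agent.H843.IMC.Co3A Cfsg.Agent.H707.RowCo3

open Cfsg.Agent.H419.Spor.Co3 (inc inc_k k y14 order)
open Cfsg.Agent.H419.Spor.Mathieu (x14 x14_fix)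
open Cfsg.Agent.Blocks.Basic (irr_one_eq_charDegree)

universe u

/-! ### the centralizer of the element of order 15 -/

theorem mem_cent_of_comm {g y : Spor.Co3} (h : y ∈ Subgroup.centralizer ({g} : Set Spor.Co3)) :
    g ∈ Subgroup.centralizer ({y} : Set Spor.Co3) :=
  Subgroup.mem_centralizer_singleton_iff.2 (Subgroup.mem_centralizer_singleton_iff.1 h).symm

theorem eleven : ¬ 11 ∣ Nat.card ↥(Subgroup.centralizer ({k y15} : Set Spor.Co3)) := by
  have := finCo3
  have : Fact (Nat.Prime 11) := ⟨by norm_num⟩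
  intro h
  obtain ⟨y, hy⟩ := exists_prime_orderOf_dvd_card' 11 h
  rw [← Subgroup.orderOf_coe] at hy
  have h1 := mem_cent_of_comm y.2
  have h2 := orderOf_dvd_natCard (⟨_, h1⟩ : ↥(Subgroup.centralizer ({(y : Spor.Co3)} : Set Spor.Co3)))
  rw [Subgroup.orderOf_mk, order15, H345.RecCo.co3_cent_11 hy] at h2
  norm_num at h2

theorem twentyfive : ¬ 25 ∣ Nat.card ↥(Subgroup.centralizer ({k y15} : Set Spor.Co3)) := by
  have := finCo3
  intro h
  have h1 : Subgroup.centralizer ({k y15} : Set Spor.Co3) ≤ Subgroup.centralizer ({(k y15) ^ 5} : Set Spor.Co3) := by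
    intro c hc
    rw [Subgroup.mem_centralizer_singleton_iff] at hc ⊢
    exact (Commute.pow_right (show Commute c (k y15) from hc) 5).eq
  have h2 := h.trans (Subgroup.card_dvd_of_le h1)
  have h3 : orderOf ((k y15) ^ 5) = 3 := by
    rw [orderOf_pow' _ (by norm_num), order15]
    norm_num
  obtain ⟨z, hz⟩ := Cfsg.Agent.SporRec.Co3.Model.equivCo3.surjective ((k y15) ^ 5)
  rw [← hz, Cfsg.Agent.H848.RatB.Co3.card_centralizer_equiv] at h2
  rw [← hz, MulEquiv.orderOf_eq] at h3
  exact Cfsg.Agent.H848.RatB.Co3.not_dvd_three h3 h2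

theorem five : 5 ∣ Nat.card ↥(Subgroup.centralizer ({k y15} : Set Spor.Co3)) := by
  have := finCo3
  have h1 : k y15 ∈ Subgroup.centralizer ({k y15} : Set Spor.Co3) := Subgroup.mem_centralizer_singleton_iff.2 rfl
  have h2 := orderOf_dvd_natCard (⟨_, h1⟩ : ↥(Subgroup.centralizer ({k y15} : Set Spor.Co3)))
  rw [Subgroup.orderOf_mk, order15] at h2
  exact dvd_trans (by norm_num) h2

/-- the 2-transitive character is not in the principal 5-block -/
theorem theta_not_mem {θ : IrrCharacter Spor.Co3} (hθ : ∀ g, (θ : Spor.Co3 → ℂ) g = (Nat.card (fixedBy Y g) : ℂ) - 1)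
    (hd : charDegree (θ : Spor.Co3 → ℂ) = 275) : θ ∉ B0 5 Spor.Co3 := by
  have := finCo3
  intro hmem
  have hcard := (Subgroup.centralizer ({k y15} : Set Spor.Co3)).index_mul_card
  rw [card_co3] at hcard
  obtain ⟨a, ha⟩ := five
  have ha5 : ¬ 5 ∣ a := by
    rintro ⟨b, rfl⟩
    exact twentyfive ⟨b, by rw [ha]; ring⟩
  set I := (Subgroup.centralizer ({k y15} : Set Spor.Co3)).index with hI
  have h11 : 11 ∣ I := by
    have h1 : 11 ∣ I * Nat.card ↥(Subgroup.centralizer ({k y15} : Set Spor.Co3)) := by rw [hcard]; norm_num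
    exact (Nat.Prime.dvd_mul (by norm_num)).1 h1 |>.resolve_right eleven
  rw [ha] at hcard
  have h25 : 25 ∣ I := by
    have h1 : 25 ∣ I * a := by
      have h2 : 5 * (I * a) = 5 * 99153331200 := by
        rw [← mul_assoc, mul_comm 5 I, mul_assoc, hcard]
      have h3 : I * a = 99153331200 := Nat.eq_of_mul_eq_mul_left (by norm_num) h2
      rw [h3]; norm_num
    exact (Nat.Coprime.dvd_of_dvd_mul_right (by
      rw [show 25 = 5 ^ 2 by norm_num]
      exact Nat.Coprime.pow_left 2 ((Nat.Prime.coprime_iff_not_dvd Nat.prime_five).2 ha5)) h1)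
  have h275 : 275 ∣ I := by
    have := Nat.Coprime.mul_dvd_of_dvd_of_dvd (by norm_num : Nat.Coprime 25 11) h25 h11
    norm_num at this
    exact this
  obtain ⟨b, hb⟩ := h275
  have h1 := class_test Nat.prime_five hmem (k y15) (d := 275) (v := -1) (c := (b : ℤ) * 276)
    (by rw [irr_one_eq_charDegree θ.2, hd]; norm_num)
    (by rw [hθ, card_fixY]; norm_num)
    (by rw [← hI, hb]; push_cast; ring)
  have h2 : (5 : ℤ) ∣ b := by omega
  have h3 : 5 ∣ b := by exact_mod_cast h2
  obtain ⟨e, rfl⟩ := h3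
  rw [hb] at hcard
  have h4 : (6875 : ℕ) ∣ 495766656000 := ⟨e * a, by rw [← hcard]; ring⟩
  norm_num at h4

theorem exists_275' : ∃ θ : IrrCharacter Spor.Co3, charDegree (θ : Spor.Co3 → ℂ) = 275 ∧ θ ∉ B0 5 Spor.Co3 := by
  obtain ⟨θ, hθ, hd, -⟩ := Cfsg.Agent.H769.PB.CoThreeRank5.exists_275
  exact ⟨θ, hd, theta_not_mem hθ hd⟩

theorem not_same_2_5 : ¬ Same 2 5 Spor.Co3 := by
  have := finCo3
  obtain ⟨θ, hd, h⟩ := exists_275'
  intro hS
  apply h
  rw [← show B0 2 Spor.Co3 = B0 5 Spor.Co3 from hS]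
  exact mem_of_nb Nat.prime_two nb_two hd (by norm_num)

theorem not_same_3_5 : ¬ Same 3 5 Spor.Co3 := by
  have := finCo3
  obtain ⟨θ, hd, h⟩ := exists_275'
  intro hS
  apply h
  rw [← show B0 3 Spor.Co3 = B0 5 Spor.Co3 from hS]
  exact mem_of_nb Nat.prime_three nb_three hd (by norm_num)

/-! ### the pair (7, 11) -/

theorem mu_not_mem {μ : IrrCharacter Spor.Co3}
    (hμ : ∀ g, Cfsg.Agent.H419.LeechIrr.lchi inc g = 1 + (μ : Spor.Co3 → ℂ) g)
    (hd : charDegree (μ : Spor.Co3 → ℂ) = 23) : μ ∉ B0 7 Spor.Co3 := by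
  have := finCo3
  intro hmem
  have hv : (μ : Spor.Co3 → ℂ) (k y14) = 0 := by
    have h1 := hμ (k y14)
    rw [Cfsg.Agent.H419.LeechFix.lchi_perm inc (inc_k y14)] at h1
    have h2 : Nat.card (MulAction.fixedBy GolayPt ((y14 : Cfsg.Agent.H419.LeechFix.St1) : M24)) = 1 := x14_fix
    rw [h2] at h1
    simpa using h1
  have h1 := class_test (by norm_num : Nat.Prime 7) hmem (k y14) (d := 23) (v := 0)
    (c := ((Subgroup.centralizer ({k y14} : Set Spor.Co3)).index : ℤ))
    (by rw [irr_one_eq_charDegree μ.2, hd]; norm_num)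
    (by rw [hv]; norm_num)
    (by ring)
  have h2 : 7 ∣ (Subgroup.centralizer ({k y14} : Set Spor.Co3)).index := by exact_mod_cast h1
  have hcard := (Subgroup.centralizer ({k y14} : Set Spor.Co3)).index_mul_card
  rw [card_co3] at hcard
  have h3 : k y14 ∈ Subgroup.centralizer ({k y14} : Set Spor.Co3) := Subgroup.mem_centralizer_singleton_iff.2 rfl
  have h4 := orderOf_dvd_natCard (⟨_, h3⟩ : ↥(Subgroup.centralizer ({k y14} : Set Spor.Co3)))
  rw [Subgroup.orderOf_mk, order] at h4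
  have h5 := Nat.mul_dvd_mul h2 h4
  rw [hcard] at h5
  norm_num at h5

theorem not_same_7_11 : ¬ Same 7 11 Spor.Co3 := by
  have := finCo3
  intro hS
  have hS' : B0 7 Spor.Co3 = B0 11 Spor.Co3 := hS
  obtain ⟨χ, hX, h0, h1, h2, h3, h4⟩ := exists_mf
  have hmem : ∀ i, i ∈ ({0} : Finset (Fin 4)) ↔ χ i ∈ B0 7 Spor.Co3 := by
    intro i
    rw [Finset.mem_singleton]
    constructor
    · rintro rfl
      have h5 : χ 0 = ⟨_, Cfsg.Agent.Blocks.Basic.isIrrCharacter_one⟩ := Subtype.ext h0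
      rw [h5]
      exact triv_mem (by norm_num)
    · intro hi
      fin_cases i
      · rfl
      · exact absurd hi (mu_not_mem h1 h2)
      · rw [hS'] at hi
        exact absurd hi (not_mem_dz (b := 1) (by norm_num) h3 (by norm_num) (by norm_num) (by norm_num)
          (by rw [card_co3]; norm_num) (by rw [card_co3]; norm_num))
      · rw [hS'] at hi
        exact absurd hi (not_mem_dz (b := 1) (by norm_num) h4 (by norm_num) (by norm_num) (by norm_num)
          (by rw [card_co3]; norm_num) (by rw [card_co3]; norm_num))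
  obtain ⟨m, hm, h2m⟩ := Cfsg.Agent.H739.PQ.fix_ge (by norm_num : Nat.Prime 7) hX {0} hmem
    (u := H769.K4.CoThree.t) ⟨1, by rw [H769.K4.CoThree.order_t, pow_one]⟩ (n := 2) ![X0, opp X0] (by
      intro i
      fin_cases i
      · exact fix_t0
      · show H769.K4.CoThree.t • opp X0 = opp X0
        rw [smul_opp, fix_t0]) (by
      intro i j hij c hc
      fin_cases i <;> fin_cases j
      · exact absurd rfl hij
      · exact not_opp c hc
      · intro h
        have h' : c • opp X0 = X0 := h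
        refine not_opp c hc ?_
        rw [smul_opp] at h'
        rw [← opp_opp (c • X0), h']
      · exact absurd rfl hij)
  rw [Finset.sum_singleton, h0, Pi.one_apply] at hm
  have h5 : m = 1 := by exact_mod_cast hm.symm
  omega

/-! ### the row -/

theorem k8855 {p a b : ℕ} {q : ℕ} (hp : p.Prime) (hq : q.Prime) (h : NB p a Spor.Co3) (h1 : ¬ p ^ a ∣ 8855) (hb : b ≠ 0)
    (hqd : q ^ b ∣ 8855) (hG : q ^ b ∣ 495766656000) (hG' : ¬ q ^ (b + 1) ∣ 495766656000) :
    ¬ Same p q Spor.Co3 := by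
  have := finCo3
  obtain ⟨χ, hχ⟩ := H417.Two.Co3.deg_8855
  exact kill hp hq h hχ h1 hb hqd (by rw [card_co3]; exact hG) (by rw [card_co3]; exact hG')

theorem k275 {p a b : ℕ} {q : ℕ} (hp : p.Prime) (hq : q.Prime) (h : NB p a Spor.Co3) (h1 : ¬ p ^ a ∣ 275) (hb : b ≠ 0)
    (hqd : q ^ b ∣ 275) (hG : q ^ b ∣ 495766656000) (hG' : ¬ q ^ (b + 1) ∣ 495766656000) :
    ¬ Same p q Spor.Co3 := by
  have := finCo3
  obtain ⟨χ, hχ, -⟩ := exists_275'
  exact kill hp hq h hχ h1 hb hqd (by rw [card_co3]; exact hG) (by rw [card_co3]; exact hG')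

theorem k2024 {p a b : ℕ} {q : ℕ} (hp : p.Prime) (hq : q.Prime) (h : NB p a Spor.Co3) (h1 : ¬ p ^ a ∣ 2024) (hb : b ≠ 0)
    (hqd : q ^ b ∣ 2024) (hG : q ^ b ∣ 495766656000) (hG' : ¬ q ^ (b + 1) ∣ 495766656000) :
    ¬ Same p q Spor.Co3 := by
  have := finCo3
  obtain ⟨χ, hχ⟩ := H417.Two.Co3.deg_2024
  exact kill hp hq h hχ h1 hb hqd (by rw [card_co3]; exact hG) (by rw [card_co3]; exact hG')

theorem k23 {p a b : ℕ} {q : ℕ} (hp : p.Prime) (hq : q.Prime) (h : NB p a Spor.Co3) (h1 : ¬ p ^ a ∣ 23) (hb : b ≠ 0)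
    (hqd : q ^ b ∣ 23) (hG : q ^ b ∣ 495766656000) (hG' : ¬ q ^ (b + 1) ∣ 495766656000) :
    ¬ Same p q Spor.Co3 := by
  have := finCo3
  obtain ⟨χ, -, -, -, h2, -⟩ := exists_mf
  exact kill hp hq h h2 h1 hb hqd (by rw [card_co3]; exact hG) (by rw [card_co3]; exact hG')

theorem row : Row Spor.Co3 := by
  have := finCo3
  apply Row.of_lt
  intro p q hp hq hpq hpG hqG
  rcases primes hp hpG with rfl | rfl | rfl | rfl | rfl | rfl <;>
    rcases primes hq hqG with rfl | rfl | rfl | rfl | rfl | rfl <;>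
    first
      | (exfalso; revert hpq; decide)
      | skip
  · -- 2 3
    exact fun h => not_PQ_three_two (PQ.of_same hp h.symm)
  · exact not_same_2_5
  · exact k8855 (b := 1) hp hq nb_two (by norm_num) (by norm_num) (by norm_num) (by norm_num) (by norm_num)
  · exact k275 (b := 1) hp hq nb_two (by norm_num) (by norm_num) (by norm_num) (by norm_num) (by norm_num)
  · exact k23 (b := 1) hp hq nb_two (by norm_num) (by norm_num) (by norm_num) (by norm_num) (by norm_num)
  · exact not_same_3_5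
  · exact k8855 (b := 1) hp hq nb_three (by norm_num) (by norm_num) (by norm_num) (by norm_num) (by norm_num)
  · exact k275 (b := 1) hp hq nb_three (by norm_num) (by norm_num) (by norm_num) (by norm_num) (by norm_num)
  · exact k23 (b := 1) hp hq nb_three (by norm_num) (by norm_num) (by norm_num) (by norm_num) (by norm_num)
  · exact k8855 (b := 1) hp hq nb_five (by norm_num) (by norm_num) (by norm_num) (by norm_num) (by norm_num)
  · exact k2024 (b := 1) hp hq nb_five (by norm_num) (by norm_num) (by norm_num) (by norm_num) (by norm_num)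
  · exact k23 (b := 1) hp hq nb_five (by norm_num) (by norm_num) (by norm_num) (by norm_num) (by norm_num)
  · exact not_same_7_11
  · refine kill_count (by norm_num) (by norm_num) (by norm_num) (by norm_num) (by rw [card_co3]; norm_num)
      (by rw [card_co3]; norm_num) (by rw [card_co3]; norm_num) (by rw [card_co3]; norm_num) ?_
    decide +kernel
  · refine kill_count (by norm_num) (by norm_num) (by norm_num) (by norm_num) (by rw [card_co3]; norm_num)
      (by rw [card_co3]; norm_num) (by rw [card_co3]; norm_num) (by rw [card_co3]; norm_num) ?_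
    decide +kernel

end Cfsg.Agent.H635.PQ.Co3

namespace Cfsg.Agent.H635.PQ

universe u

/-- **The row `Co₃`.** -/
theorem row_co3 {S : Type u} [Group S] (h : Cfsg.Spor.IsoCo3 S) : Cfsg.Agent.H317.PQ.Row S := by
  obtain ⟨e⟩ := h
  have := Co3.finCo3
  exact Cfsg.Agent.H766.PQ.Row.of_equiv e.symm Co3.row

end Cfsg.Agent.H635.PQ
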