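import Cfsg.Agent.H635.PQ.Co3NB
import Cfsg.Agent.H769.PB.CoThreeRank5
import Cfsg.Agent.H769.PB.RowCoTwo
import Cfsg.Agent.H329.PQ.MF

/-!
# S4612, the row `Co₃`: the permutation character of degree 552 (helper635)
-/

set_option autoImplicit false
set_option linter.unusedVariables false

open Cfsg MulAction

namespace Cfsg.Agent.H635.PQ.Co3

open Cfsg.Agent.H843.IMC.Co3A Cfsg.Agent.H707.RowCo3 Cfsg.Agent.Characters.Core
open Cfsg.Agent.H713.Spor.RankThree (pc inner_pc_one inner_pc_self inner_ne pc_one)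
open Cfsg.Agent.H419.Spor.Co3 (inc inc_injective inc_fix)
open Cfsg.Agent.Blocks.Basic (irr_one_eq_charDegree)
open Cfsg.Agent.S0157 (isCharacter_fixedBy avg_fixedBy card_fixedBy_prod)
open Cfsg.Agent.H329.PQ (MF)
open scoped ComplexConjugate

theorem finCo3 : Finite Spor.Co3 := inferInstance

theorem nonemptyX : Nonempty X := by
  rw [← Finite.card_pos_iff, card_X]
  norm_num

theorem rank_le : Nat.card (Quotient (orbitRel Spor.Co3 (X × X))) ≤ 4 := by
  obtain ⟨x⟩ := nonemptyX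
  obtain ⟨y, hy⟩ : ∃ y : X, dotInt (x.1 : GolayPt → ℤ) (y.1 : GolayPt → ℤ) = 16 := by
    have h := (S1580.result Spor.leechV x.1 normV x.2).1
    have h' := Set.nonempty_of_ncard_ne_zero (by rw [h]; norm_num)
    obtain ⟨y, h1, h2, h3⟩ := h'
    exact ⟨⟨y, h1, h2⟩, h3⟩
  rw [Cfsg.Agent.H707.Rank.card_orbits_prod x (stabilizer _ x) (fun g => mem_stabilizer_iff)]
  refine Cfsg.Agent.H707.Rank.card_orbits_le _ ![x, opp x, y, opp y] ?_
  intro z
  rcases ip x z with h | h | h | h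
  · exact ⟨0, by rw [h]; exact mem_orbit_self _⟩
  · exact ⟨1, by rw [h]; exact mem_orbit_self _⟩
  · obtain ⟨g, hg⟩ := trans16 x y z hy h
    exact ⟨2, g, hg⟩
  · obtain ⟨g, hg⟩ := trans16 x y (opp z) hy h
    refine ⟨3, g, ?_⟩
    have h5 : (g : ↥Spor.Co3) • opp y = opp ((g : ↥Spor.Co3) • y) := smul_opp _ _
    have h6 : (g : ↥Spor.Co3) • y = opp z := hg
    show (g : ↥Spor.Co3) • opp y = z
    rw [h5, h6, opp_opp]

theorem inner_pc_pc [Fintype Spor.Co3] (A B : Type) [MulAction Spor.Co3 A] [MulAction Spor.Co3 B] [Finite A] [Finite B] :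
    classInner (pc Spor.Co3 A) (pc Spor.Co3 B) = (Nat.card (Quotient (orbitRel Spor.Co3 (A × B))) : ℂ) := by
  rw [classInner_def, ← avg_fixedBy (G := Spor.Co3) (A × B)]
  congr 1
  refine Finset.sum_congr rfl fun g _ => ?_
  rw [card_fixedBy_prod, pc, pc, Complex.conj_natCast]
  push_cast
  rfl

theorem two_le_XY : 2 ≤ Nat.card (Quotient (orbitRel Spor.Co3 (X × Y))) := by
  obtain ⟨x⟩ := nonemptyX
  have h1 : 1 < Nat.card Y := by rw [card_Y]; norm_num
  have hnt : Nontrivial Y := Finite.one_lt_card_iff_nontrivial.1 h1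
  obtain ⟨w, hw⟩ := exists_ne (Quotient.mk st x : Y)
  have h2 : Nontrivial (Quotient (orbitRel Spor.Co3 (X × Y))) := by
    refine ⟨Quotient.mk _ (x, w), Quotient.mk _ (x, (Quotient.mk st x : Y)), fun h => hw ?_⟩
    obtain ⟨g, hg⟩ := Quotient.exact h
    have h3 : g • x = x := congrArg Prod.fst hg
    have h4 : g • (Quotient.mk st x : Y) = w := congrArg Prod.snd hg
    rw [← h4, smul_mk, h3]
  exact Finite.one_lt_card_iff_nontrivial.2 h2

/-- **The 552 points.** -/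
theorem exists_mf : ∃ χ : Fin 4 → IrrCharacter Spor.Co3, MF Spor.Co3 X χ ∧ (χ 0 : Spor.Co3 → ℂ) = 1 ∧
    (∀ g, Cfsg.Agent.H419.LeechIrr.lchi inc g = 1 + (χ 1 : Spor.Co3 → ℂ) g) ∧
    charDegree (χ 1 : Spor.Co3 → ℂ) = 23 ∧ charDegree (χ 2 : Spor.Co3 → ℂ) = 275 ∧
    charDegree (χ 3 : Spor.Co3 → ℂ) = 253 := by
  classical
  have := finCo3
  have := Fintype.ofFinite Spor.Co3
  have hne := nonemptyX
  obtain ⟨μ, hμ⟩ := exists_mu
  have hμd : charDegree (μ : Spor.Co3 → ℂ) = 23 := Cfsg.Agent.H769.PB.RowCoTwo.deg_mu hμ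
  obtain ⟨θ, hθ, hθd, -⟩ := Cfsg.Agent.H769.PB.CoThreeRank5.exists_275
  have hone' : charDegree (1 : Spor.Co3 → ℂ) = 1 := by
    unfold charDegree
    simp
  have hμ1 : (μ : Spor.Co3 → ℂ) ≠ 1 := by
    intro h
    rw [h, hone'] at hμd
    omega
  have hθμ : (θ : Spor.Co3 → ℂ) ≠ μ := by
    intro h
    rw [h] at hθd
    omega
  have hXμ : classInner (pc Spor.Co3 X) (μ : Spor.Co3 → ℂ) ≠ 0 := by
    refine inner_ne inc μ hμ1 (d := 1) (fun g => by rw [hμ g]; norm_num) X (fun x => x.1) (fun _ _ => rfl) ?_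
    intro z
    have h1 : 1 < Nat.card X := by rw [card_X]; norm_num
    have hnt : Nontrivial X := Finite.one_lt_card_iff_nontrivial.1 h1
    obtain ⟨w, hw⟩ := exists_ne z
    obtain ⟨g, hg⟩ := exists_smul_eq Spor.Co3 z w
    refine ⟨g, fun hcon => hw ?_⟩
    rw [← hg]
    exact Subtype.ext hcon
  obtain ⟨m, hm⟩ := classInner_isNat (isCharacter_fixedBy (G := Spor.Co3) X) (isIrr_isCharacter μ.2)
  change classInner (pc Spor.Co3 X) (μ : Spor.Co3 → ℂ) = m at hm
  have hm0 : m ≠ 0 := by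
    rintro rfl
    exact hXμ (by rw [hm]; norm_num)
  have hm' : classInner (μ : Spor.Co3 → ℂ) (pc Spor.Co3 X) = m := by
    rw [← classInner_conj_symm, hm, Complex.conj_natCast]
  have hY1 : pc Spor.Co3 Y = 1 + (θ : Spor.Co3 → ℂ) := by
    funext g
    rw [Pi.add_apply, hθ, Pi.one_apply, add_sub_cancel]
    rfl
  have h0μ : classInner (pc Spor.Co3 Y) (μ : Spor.Co3 → ℂ) = 0 := by
    rw [hY1, classInner_add_left, classInner_irr_ne isIrr_one μ.2 (Ne.symm hμ1), classInner_irr_ne θ.2 μ.2 hθμ, add_zero]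
  have h0μ' : classInner (μ : Spor.Co3 → ℂ) (pc Spor.Co3 Y) = 0 := by
    rw [← classInner_conj_symm, h0μ, map_zero]
  have hYY : classInner (pc Spor.Co3 Y) (pc Spor.Co3 Y) = 2 := by
    have h1 : (1 : Spor.Co3 → ℂ) ≠ θ := by
      intro h
      rw [← h, hone'] at hθd
      omega
    rw [hY1, classInner_add_left, classInner_add_right, classInner_add_right, classInner_irr_self isIrr_one,
      classInner_irr_self θ.2, classInner_irr_ne isIrr_one θ.2 h1, classInner_irr_ne θ.2 isIrr_one h1.symm]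
    norm_num
  set r := Nat.card (Quotient (orbitRel Spor.Co3 (X × X))) with hr
  set s := Nat.card (Quotient (orbitRel Spor.Co3 (X × Y))) with hs
  have hXX : classInner (pc Spor.Co3 X) (pc Spor.Co3 X) = (r : ℂ) := inner_pc_self X
  have hXY : classInner (pc Spor.Co3 X) (pc Spor.Co3 Y) = (s : ℂ) := inner_pc_pc X Y
  have hYX : classInner (pc Spor.Co3 Y) (pc Spor.Co3 X) = (s : ℂ) := by
    rw [← classInner_conj_symm, hXY, Complex.conj_natCast]
  set ψ : Spor.Co3 → ℂ := pc Spor.Co3 X - (pc Spor.Co3 Y + (μ : Spor.Co3 → ℂ)) with hψ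
  have hgen : IsGeneralizedCharacter Spor.Co3 ψ := by
    rw [isGeneralizedCharacter_def]
    exact ⟨_, _, isCharacter_fixedBy X, isCharacter_add (isCharacter_fixedBy Y) (isIrr_isCharacter μ.2), rfl⟩
  have hval : ψ 1 = ((253 : ℕ) : ℂ) := by
    rw [hψ, Pi.sub_apply, Pi.add_apply, pc_one, pc_one, irr_one_eq_charDegree μ.2, hμd, card_X, card_Y]
    norm_num
  have hnorm : classInner ψ ψ = ((r : ℤ) + 3 - 2 * s - 2 * m : ℤ) := by
    rw [hψ, classInner_sub_left, classInner_sub_right, classInner_sub_right, classInner_add_left,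
      classInner_add_left, classInner_add_right, classInner_add_right, classInner_add_right,
      hXX, hXY, hYX, hm, hm', h0μ, h0μ', hYY, classInner_irr_self μ.2]
    push_cast
    ring
  have hpos : ψ ≠ 0 := by
    intro h
    rw [h, Pi.zero_apply] at hval
    norm_num at hval
  have hnonneg : 0 < (r : ℤ) + 3 - 2 * s - 2 * m := by
    have h4 := classInner_self_eq_ofReal ψ
    rw [hnorm] at h4
    have h5 : (((r : ℤ) + 3 - 2 * s - 2 * m : ℤ) : ℝ) =
        (Nat.card Spor.Co3 : ℝ)⁻¹ * ∑ g : Spor.Co3, Complex.normSq (ψ g) := by exact_mod_cast h4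
    have h6 : (0 : ℝ) ≤ (((r : ℤ) + 3 - 2 * s - 2 * m : ℤ) : ℝ) := by
      rw [h5]
      exact mul_nonneg (by positivity) (Finset.sum_nonneg fun _ _ => Complex.normSq_nonneg _)
    have h7 : (0 : ℤ) ≤ (r : ℤ) + 3 - 2 * s - 2 * m := by exact_mod_cast h6
    refine lt_of_le_of_ne h7 fun h8 => hpos ?_
    apply classInner_self_eq_zero
    rw [hnorm, ← h8]
    norm_num
  have hone : (r : ℤ) + 3 - 2 * s - 2 * m = 1 := by
    have h1 := rank_le
    have h2 := two_le_XY
    omega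
  rw [hone] at hnorm
  have hirr : IsIrrCharacter Spor.Co3 ψ := by
    rcases isIrr_of_generalized hgen (by rw [hnorm]; norm_num) with h | h
    · exact h
    · exfalso
      obtain ⟨n, hn, hn'⟩ := isIrr_apply_one h
      rw [Pi.neg_apply, hval] at hn'
      have h4 : ((n : ℤ) : ℂ) + (((253 : ℕ) : ℤ) : ℂ) = 0 := by
        push_cast
        rw [← hn']
        norm_num
      have h5 : (n : ℤ) + ((253 : ℕ) : ℤ) = 0 := by exact_mod_cast h4
      omega
  have hψd : charDegree ψ = 253 := by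
    have h4 : ((charDegree ψ : ℕ) : ℂ) = ((253 : ℕ) : ℂ) := by
      rw [← hval]
      exact (irr_one_eq_charDegree hirr).symm
    exact_mod_cast h4
  have hd : ∀ i : Fin 4, charDegree ((![⟨1, isIrr_one⟩, μ, θ, ⟨ψ, hirr⟩] : Fin 4 → IrrCharacter Spor.Co3) i :
      Spor.Co3 → ℂ) = (![1, 23, 275, 253] : Fin 4 → ℕ) i := by
    intro i
    fin_cases i
    · exact hone'
    · exact hμd
    · exact hθd
    · exact hψd
  refine ⟨![⟨1, isIrr_one⟩, μ, θ, ⟨ψ, hirr⟩], ⟨?_, ?_⟩, rfl, hμ, hμd, hθd, hψd⟩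
  · intro i j hij
    have h1 := hd i
    rw [hij, hd j] at h1
    have key : ∀ i j : Fin 4, (![1, 23, 275, 253] : Fin 4 → ℕ) j = (![1, 23, 275, 253] : Fin 4 → ℕ) i → i = j := by
      decide
    exact key i j h1
  · intro g
    rw [Fin.sum_univ_four]
    show pc Spor.Co3 X g = (1 : Spor.Co3 → ℂ) g + (μ : Spor.Co3 → ℂ) g + (θ : Spor.Co3 → ℂ) g + ψ g
    rw [hψ, hY1]
    simp only [Pi.sub_apply, Pi.add_apply, Pi.one_apply]
    ring

end Cfsg.Agent.H635.PQ.Co3
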